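import Groth.Agent.L25.Solv.Points
import Groth.Agent.L25.Locus.Main
import Groth.Agent.L25.Locus.Smooth
import Groth.Agent.L25.NilAction
import Groth.Agent.L07.Count.Constr
import Groth.Agent.L06.FibreDimLocConst
import Groth.Agent.L23.FibreDimBC
import Groth.Agent.L07.FibreDimSemi
import Groth.Agent.L06.Spectral
import Groth.Prelude.Def_AGF
import Groth.Prelude.Def_Red2

/-!
# The loci of solvable and of nilpotent geometric fibres
-/

set_option autoImplicit false
set_option backward.isDefEq.respectTransparency.types false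
set_option linter.style.haveILetI false

universe w v u

open CategoryTheory CategoryTheory.Limits MonoidalCategory CartesianMonoidalCategory MonObj GrpObj AlgebraicGeometry
open Topology TopologicalSpace Set.Notation
open scoped commutatorElement

noncomputable section

namespace Groth.L25.Solv

theorem dim_baseChange_field (k L : Type u) [Field k] [Field L] {F F' : Scheme.{u}}
    (π : F ⟶ Spec (CommRingCat.of k)) [LocallyOfFiniteType π] (ψ : CommRingCat.of k ⟶ CommRingCat.of L)
    (π' : F' ⟶ Spec (CommRingCat.of L)) (pr : F' ⟶ F) (hpb : IsPullback pr π' π (Spec.map ψ)) :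
    topologicalKrullDim F' = topologicalKrullDim F := by
  have hle : ∀ {T : Scheme.{u}} (t : T), FlatMor.localDim T t ≤ topologicalKrullDim T := fun t =>
    iInf_le_of_le ⟨⊤, trivial⟩ (topologicalKrullDim_subspace_le _ _)
  haveI : Surjective (Spec.map ψ) := ⟨fun x => ⟨IsLocalRing.closedPoint L, Subsingleton.elim (α := PrimeSpectrum k) _ x⟩⟩
  haveI : Surjective pr := MorphismProperty.of_isPullback hpb.flip ‹Surjective (Spec.map ψ)›
  refine le_antisymm (Groth.L07.FibreDim.dim_le_of_localDim_le _ fun x => ?_)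
    (Groth.L07.FibreDim.dim_le_of_localDim_le _ fun y => ?_)
  · rw [Groth.L23.localDim_baseChange_field k L π ψ π' pr hpb x]
    exact hle _
  · obtain ⟨x, rfl⟩ := pr.surjective y
    rw [← Groth.L23.localDim_baseChange_field k L π ψ π' pr hpb x]
    exact hle _

section Abstract

variable {C : Type w} [Category.{v} C] [CartesianMonoidalCategory C] (G : C) [GrpObj G]

theorem derived_iff_word (n : ℕ) : (∀ T : C, derivedSeries (T ⟶ G) n = ⊥) ↔ CommWords.wD G n = 1 :=
  ⟨fun h => (Category.id_comp _).symm.trans ((CommWords.derived_bot_iff G _ n).1 (h _) (𝟙 _)),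
    fun h T => (CommWords.derived_bot_iff G T n).2 fun P => by rw [h, MonObj.comp_one]⟩

theorem lower_iff_word (n : ℕ) :
    (∀ T : C, Subgroup.lowerCentralSeries (⊤ : Subgroup (T ⟶ G)) n = ⊥) ↔ CommWords.wL G n = 1 :=
  ⟨fun h => (Category.id_comp _).symm.trans ((CommWords.lower_bot_iff G _ n).1 (h _) (𝟙 _)),
    fun h T => (CommWords.lower_bot_iff G T n).2 fun P => by rw [h, MonObj.comp_one]⟩

end Abstract

theorem derived_bot_congr {Γ Δ : Type*} [Group Γ] [Group Δ] (e : Γ ≃* Δ) (n : ℕ) :
    derivedSeries Γ n = ⊥ ↔ derivedSeries Δ n = ⊥ := by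
  rw [← map_derivedSeries_eq (f := e.toMonoidHom) e.surjective n,
    Subgroup.map_eq_bot_iff_of_injective _ e.injective]

theorem lower_bot_congr {Γ Δ : Type*} [Group Γ] [Group Δ] (e : Γ ≃* Δ) (n : ℕ) :
    Subgroup.lowerCentralSeries (⊤ : Subgroup Γ) n = ⊥ ↔ Subgroup.lowerCentralSeries (⊤ : Subgroup Δ) n = ⊥ := by
  rw [← Subgroup.map_top_of_surjective e.toMonoidHom e.surjective, ← Subgroup.map_lowerCentralSeries,
    Subgroup.map_eq_bot_iff_of_injective _ e.injective]

variable {S S' : Scheme.{u}} (f : S' ⟶ S) (G : Over S) [GrpObj G]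

/-- the universal point of a base change -/
def pr (X : Over S) : Over.mk ((Red.bc f X).hom ≫ f) ⟶ X := NilAction.toBase f (𝟙 (Red.bc f X))

theorem pr_left (X : Over S) : (pr f X).left = pullback.fst X.hom f := Category.id_comp _

theorem forall_points_iff {X : Over S} (w : X ⟶ G) :
    (∀ (T : Over S') (P : Over.mk (T.hom ≫ f) ⟶ X), P ≫ w = 1) ↔ pr f X ≫ w = 1 := by
  refine ⟨fun h => h _ _, fun h T P => ?_⟩
  let m : Over.mk (T.hom ≫ f) ⟶ Over.mk ((Red.bc f X).hom ≫ f) :=
    Over.homMk (NilAction.ofBase f P).left (by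
      show (NilAction.ofBase f P).left ≫ (Red.bc f X).hom ≫ f = T.hom ≫ f
      rw [← Category.assoc, Over.w])
  have hm : m ≫ pr f X = P := by
    refine Over.OverMorphism.ext ?_
    show (NilAction.ofBase f P).left ≫ (pr f X).left = P.left
    rw [pr_left]
    exact pullback.lift_fst _ _ _
  rw [← hm, Category.assoc, h, MonObj.comp_one]

/-- points of the base change -/
def pointsEquiv (T : Over S') : (T ⟶ Red.bc f G) ≃* (Over.mk (T.hom ≫ f) ⟶ G) :=
  { toFun := NilAction.toBase f
    invFun := NilAction.ofBase f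
    left_inv := NilAction.ofBase_toBase f
    right_inv := NilAction.toBase_ofBase f
    map_mul' := NilAction.toBase_mul f }

theorem bc_wD_iff (n : ℕ) :
    CommWords.wD (Red.bc f G) n = 1 ↔ pr f (CommWords.TD G n) ≫ CommWords.wD G n = 1 := by
  rw [← derived_iff_word, ← forall_points_iff]
  exact forall_congr' fun T => (derived_bot_congr (pointsEquiv f G T) n).trans (CommWords.derived_bot_iff G _ n)

theorem bc_wL_iff (n : ℕ) :
    CommWords.wL (Red.bc f G) n = 1 ↔ pr f (CommWords.TL G n) ≫ CommWords.wL G n = 1 := by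
  rw [← lower_iff_word, ← forall_points_iff]
  exact forall_congr' fun T => (lower_bot_congr (pointsEquiv f G T) n).trans (CommWords.lower_bot_iff G _ n)

theorem isSolvable_iff (H : Over S) [GrpObj H] : Red.IsSolvableGrp H ↔ ∃ n, CommWords.wD H n = 1 :=
  exists_congr fun n => derived_iff_word H n

theorem isNilpotent_iff (H : Over S) [GrpObj H] : AGF.IsNilpotentGrp H ↔ ∃ n, CommWords.wL H n = 1 :=
  exists_congr fun n => (forall_congr' fun _ => Subgroup.lowerCentralSeries_eq_bot_iff_upperCentralSeries_eq_top.symm).trans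
    (lower_iff_word H n)

theorem smooth_bc_tensor {X Y : Over S} (hX : Smooth (Red.bc f X).hom) (hY : Smooth (Red.bc f Y).hom) :
    Smooth (Red.bc f (X ⊗ Y)).hom := by
  haveI := hX
  haveI := hY
  let e := Functor.Monoidal.μIso (Over.pullback f) X Y
  haveI : IsIso e.inv.left := inferInstanceAs (IsIso ((Over.forget S').map e.inv))
  haveI : Smooth (Red.bc f X ⊗ Red.bc f Y).hom :=
    inferInstanceAs (Smooth (pullback.fst (Red.bc f X).hom (Red.bc f Y).hom ≫ (Red.bc f X).hom))
  rw [← Over.w e.inv]
  infer_instance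

theorem smooth_bc_TD (hG : Smooth (Red.bc f G).hom) : ∀ n, Smooth (Red.bc f (CommWords.TD G n)).hom
  | 0 => hG
  | n + 1 => smooth_bc_tensor f (smooth_bc_TD hG n) (smooth_bc_TD hG n)

theorem smooth_bc_TL (hG : Smooth (Red.bc f G).hom) : ∀ n, Smooth (Red.bc f (CommWords.TL G n)).hom
  | 0 => hG
  | n + 1 => smooth_bc_tensor f (smooth_bc_TL hG n) hG

theorem props_tensor {X Y : Over S} (hX : LocallyOfFinitePresentation X.hom ∧ QuasiCompact X.hom)
    (hY : LocallyOfFinitePresentation Y.hom ∧ QuasiCompact Y.hom) :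
    LocallyOfFinitePresentation (X ⊗ Y).hom ∧ QuasiCompact (X ⊗ Y).hom := by
  haveI := hX.1
  haveI := hX.2
  haveI := hY.1
  haveI := hY.2
  exact ⟨inferInstanceAs (LocallyOfFinitePresentation (pullback.fst X.hom Y.hom ≫ X.hom)),
    inferInstanceAs (QuasiCompact (pullback.fst X.hom Y.hom ≫ X.hom))⟩

theorem props_TD [LocallyOfFinitePresentation G.hom] [QuasiCompact G.hom] :
    ∀ n, LocallyOfFinitePresentation (CommWords.TD G n).hom ∧ QuasiCompact (CommWords.TD G n).hom
  | 0 => ⟨‹LocallyOfFinitePresentation G.hom›, ‹QuasiCompact G.hom›⟩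
  | n + 1 => props_tensor (props_TD n) (props_TD n)

theorem props_TL [LocallyOfFinitePresentation G.hom] [QuasiCompact G.hom] :
    ∀ n, LocallyOfFinitePresentation (CommWords.TL G n).hom ∧ QuasiCompact (CommWords.TL G n).hom
  | 0 => ⟨‹LocallyOfFinitePresentation G.hom›, ‹QuasiCompact G.hom›⟩
  | n + 1 => props_tensor (props_TL n) ⟨‹_›, ‹_›⟩

theorem smooth_TD' [Smooth G.hom] : ∀ n, Smooth (CommWords.TD G n).hom
  | 0 => ‹Smooth G.hom›
  | n + 1 => haveI := smooth_TD' n; inferInstanceAs (Smooth (pullback.fst (CommWords.TD G n).hom (CommWords.TD G n).hom ≫ _))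

theorem smooth_TL' [Smooth G.hom] : ∀ n, Smooth (CommWords.TL G n).hom
  | 0 => ‹Smooth G.hom›
  | n + 1 => haveI := smooth_TL' n; inferInstanceAs (Smooth (pullback.fst (CommWords.TL G n).hom G.hom ≫ _))

/-- where the morphism is non-trivial -/
def bad {X : Over S} (w : X ⟶ G) : Set S :=
  X.hom '' (Set.range (pullback.fst (lift w 1).left (Locus.diag G).left))ᶜ

theorem trivial_iff {X : Over S} (w : X ⟶ G) (s : S) (hX : Smooth (Red.bc (Red.geomPt s) X).hom) :
    pr (Red.geomPt s) X ≫ w = 1 ↔ s ∉ bad G w := by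
  haveI := hX
  set K := AlgebraicClosure (S.residueField s)
  have hs : ∀ c, Red.geomPt s c = s := fun c => by
    show (_ ≫ S.fromSpecResidueField s) c = s
    rw [Scheme.Hom.comp_apply]
    exact Scheme.fromSpecResidueField_apply _ _
  have hrange : Set.range (pr (Red.geomPt s) X).left = X.hom ⁻¹' {s} := by
    rw [pr_left, Scheme.Pullback.range_fst]
    congr 1
    exact Set.ext fun x => ⟨fun ⟨c, hc⟩ => hc ▸ hs c, fun hx => ⟨IsLocalRing.closedPoint K, (hs _).trans hx.symm⟩⟩
  set j := pullback.fst (lift w 1).left (Locus.diag G).left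
  constructor
  · rintro h ⟨x, hx, hxs⟩
    obtain ⟨p, rfl⟩ : x ∈ Set.range (pr (Red.geomPt s) X).left := hrange ▸ hxs
    refine hx ?_
    have e : pr (Red.geomPt s) X ≫ lift w 1 = 1 ≫ Locus.diag G := by
      ext1 <;> simp [h]
    let l := pullback.lift (pr (Red.geomPt s) X).left _ (congrArg (fun m => m.left) e)
    exact ⟨l p, by rw [← Scheme.Hom.comp_apply, pullback.lift_fst]⟩
  · intro h
    have hsub : Set.range (pr (Red.geomPt s) X).left ⊆ Set.range j := by
      rw [hrange]
      intro x hx
      by_contra hx'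
      exact h ⟨x, hx', hx⟩
    haveI : IsImmersion (Locus.diag G).left := inferInstanceAs (IsImmersion (pullback.diagonal G.hom))
    let q := pullback.snd j (pr (Red.geomPt s) X).left
    have hq : Set.range q = Set.univ := by
      rw [Scheme.Pullback.range_snd]
      exact Set.eq_univ_of_forall fun x => hsub ⟨x, rfl⟩
    haveI : IsClosedImmersion q := IsClosedImmersion.of_isPreimmersion q (by rw [hq]; exact isClosed_univ)
    haveI : Surjective q := ⟨Set.range_eq_univ.1 hq⟩
    haveI : IsReduced (Over.mk ((Red.bc (Red.geomPt s) X).hom ≫ Red.geomPt s)).left :=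
      Groth.Agent.AV.isReduced_of_smooth_field (Red.bc (Red.geomPt s) X).hom
    haveI : IsIso q := isIso_of_isClosedImmersion_of_surjective q
    let l := inv q ≫ pullback.fst j (pr (Red.geomPt s) X).left
    have hl : l ≫ j = (pr (Red.geomPt s) X).left := by
      rw [Category.assoc, pullback.condition, IsIso.inv_hom_id_assoc]
    let m := l ≫ pullback.snd (lift w 1).left (Locus.diag G).left
    have hm : m ≫ (Locus.diag G).left = (pr (Red.geomPt s) X ≫ lift w 1).left := by
      show (l ≫ _) ≫ _ = (pr (Red.geomPt s) X).left ≫ (lift w 1).left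
      exact (Category.assoc _ _ _).trans ((congrArg (l ≫ ·) pullback.condition.symm).trans
        ((Category.assoc _ _ _).symm.trans (congrArg (· ≫ _) hl)))
    let mO : Over.mk ((Red.bc (Red.geomPt s) X).hom ≫ Red.geomPt s) ⟶ G := Over.homMk m (by
      have e := congrArg (· ≫ (G ⊗ G).hom) hm
      simp only [Category.assoc, Over.w] at e
      exact e)
    have e : mO ≫ Locus.diag G = pr (Red.geomPt s) X ≫ lift w 1 := Over.OverMorphism.ext hm
    have e1 := congrArg (· ≫ fst G G) e
    have e2 := congrArg (· ≫ snd G G) e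
    simp only [Category.assoc, lift_fst, lift_snd, MonObj.comp_one, Category.comp_id] at e1 e2
    exact e1.symm.trans e2

theorem isClosed_compl_bad [IsSeparated G.hom] {X : Over S} [Smooth X.hom] (w : X ⟶ G) : IsClosed (bad G w)ᶜ := by
  haveI : IsClosedImmersion (Locus.diag G).left := Locus.isClosedImmersion_diag
  refine isClosed_compl_iff.2 (X.hom.isOpenMap _ ?_)
  exact (pullback.fst (lift w 1).left (Locus.diag G).left).isClosedEmbedding.isClosed_range.isOpen_compl

theorem isLocallyConstructible_compl {A : Set S} (h : IsLocallyConstructible A) : IsLocallyConstructible Aᶜ := by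
  intro x
  obtain ⟨U, hU, hUo, hc⟩ := h x
  exact ⟨U, hU, hUo, by rw [Set.preimage_compl]; exact hc.compl⟩

theorem isLocallyConstructible_compl_bad [LocallyOfFinitePresentation G.hom] [QuasiCompact G.hom]
    [QuasiSeparated G.hom] {X : Over S} [LocallyOfFinitePresentation X.hom] [QuasiCompact X.hom] (w : X ⟶ G) :
    IsLocallyConstructible (bad G w)ᶜ := by
  haveI : LocallyOfFinitePresentation (Locus.diag G).left := by
    have : LocallyOfFinitePresentation (pullback.diagonal G.hom ≫ pullback.fst G.hom G.hom) := by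
      rw [pullback.diagonal_fst]; infer_instance
    exact Groth.L20.locallyOfFinitePresentation_of_comp (pullback.diagonal G.hom) (pullback.fst G.hom G.hom)
  haveI : QuasiCompact (Locus.diag G).left := inferInstanceAs (QuasiCompact (pullback.diagonal G.hom))
  refine isLocallyConstructible_compl (X.hom.isLocallyConstructible_image (isLocallyConstructible_compl ?_))
  rw [← Set.image_univ]
  exact (pullback.fst (lift w 1).left (Locus.diag G).left).isLocallyConstructible_image
    IsConstructible.univ.isLocallyConstructible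

theorem smooth_geomFibre_of_fibre {S : Scheme.{u}} (G : Over S) (s : S)
    (h : Smooth (G.hom.fiberToSpecResidueField s)) : Smooth (Red.geomFibre s G).hom := by
  let ψ := CommRingCat.ofHom (algebraMap (S.residueField s) (AlgebraicClosure (S.residueField s)))
  let p : (Red.geomFibre s G).left ⟶ pullback G.hom (S.fromSpecResidueField s) :=
    pullback.lift (pullback.fst G.hom (Red.geomPt s)) (pullback.snd G.hom (Red.geomPt s) ≫ Spec.map ψ)
      (by rw [Category.assoc]; exact pullback.condition)
  have hpb : IsPullback p (pullback.snd G.hom (Red.geomPt s)) (G.hom.fiberToSpecResidueField s) (Spec.map ψ) := by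
    refine IsPullback.of_right ?_ (pullback.lift_snd _ _ _) (IsPullback.of_hasPullback G.hom _)
    rw [pullback.lift_fst]
    exact IsPullback.of_hasPullback G.hom (Red.geomPt s)
  exact MorphismProperty.of_isPullback hpb h

variable (hG : ∀ s : S, Smooth (Red.geomFibre s G).hom)
include hG

theorem solvable_iff (s : S) :
    Red.IsSolvableGrp (Red.geomFibre s G) ↔ ∃ n, s ∉ bad G (CommWords.wD G n) :=
  (isSolvable_iff _).trans (exists_congr fun n => (bc_wD_iff _ G n).trans
    (trivial_iff G _ s (smooth_bc_TD _ G (hG s) n)))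

theorem nilpotent_iff (s : S) :
    AGF.IsNilpotentGrp (Red.geomFibre s G) ↔ ∃ n, s ∉ bad G (CommWords.wL G n) :=
  (isNilpotent_iff _).trans (exists_congr fun n => (bc_wL_iff _ G n).trans
    (trivial_iff G _ s (smooth_bc_TL _ G (hG s) n)))

omit hG in
theorem exists_dim_bound [LocallyOfFiniteType G.hom] [QuasiCompact G.hom] {U : S.Opens} (hU : IsAffineOpen U) :
    ∃ d : ℕ, ∀ s ∈ U, topologicalKrullDim (Red.geomFibre s G).left ≤ d := by
  choose d hd using fun p => Groth.L07.OpenEquiv.exists_nat_fibreDimAt G.hom p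
  obtain ⟨t, ht⟩ := (QuasiCompact.isCompact_preimage (f := G.hom) U U.isOpen hU.isCompact).elim_finite_subcover
    (fun n : ℕ => {p : G.left | FlatMor.fibreDimAt G.hom p ≤ (n : WithBot ℕ∞)})
    (fun n => Groth.L07.FibreDim.isOpen_fibreDimAt_le G.hom n) (fun p _ => Set.mem_iUnion.mpr ⟨d p, (hd p).le⟩)
  refine ⟨t.sup id, fun s hs => ?_⟩
  let ψ := CommRingCat.ofHom (algebraMap (S.residueField s) (AlgebraicClosure (S.residueField s)))
  let p : (Red.geomFibre s G).left ⟶ pullback G.hom (S.fromSpecResidueField s) :=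
    pullback.lift (pullback.fst G.hom (Red.geomPt s)) (pullback.snd G.hom (Red.geomPt s) ≫ Spec.map ψ)
      (by rw [Category.assoc]; exact pullback.condition)
  have hpb : IsPullback p (pullback.snd G.hom (Red.geomPt s)) (G.hom.fiberToSpecResidueField s) (Spec.map ψ) := by
    refine IsPullback.of_right ?_ (pullback.lift_snd _ _ _) (IsPullback.of_hasPullback G.hom _)
    rw [pullback.lift_fst]
    exact IsPullback.of_hasPullback G.hom (Red.geomPt s)
  haveI hlft : LocallyOfFiniteType (G.hom.fiberToSpecResidueField s) :=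
    MorphismProperty.pullback_snd (P := @LocallyOfFiniteType) G.hom (S.fromSpecResidueField s) inferInstance
  refine (@dim_baseChange_field (S.residueField s) _ _ _ _ _ (G.hom.fiberToSpecResidueField s) hlft ψ
    (pullback.snd G.hom (Red.geomPt s)) p hpb).le.trans ?_
  refine (Groth.L07.FibreDim.fiber_dim_le_iff G.hom s _).mpr fun q hq => ?_
  obtain ⟨n, hn, hpn⟩ := Set.mem_iUnion₂.mp (ht (show G.hom q ∈ U from hq ▸ hs))
  exact le_trans hpn (by exact_mod_cast (Finset.le_sup (f := id) hn : n ≤ t.sup id))

omit hG in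
theorem exists_comp_bound [LocallyOfFinitePresentation G.hom] [QuasiCompact G.hom] [QuasiSeparated G.hom]
    {U : S.Opens} (hU : IsAffineOpen U) :
    ∃ m : ℕ, ∀ s ∈ U, ENat.card (ConnectedComponents (Red.geomFibre s G).left) ≤ m := by
  have heq : ∀ s, MoreMor.nGeomConnComp G.hom s = ENat.card (ConnectedComponents (Red.geomFibre s G).left) :=
    fun s => Groth.L07.Count.nGeomConnComp_eq G.hom (AlgebraicClosure (S.residueField s)) (Red.geomPt s) s
      (fun c => by
        show (_ ≫ S.fromSpecResidueField s) c = s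
        rw [Scheme.Hom.comp_apply]
        exact Scheme.fromSpecResidueField_apply _ _)
  have hfin : ∀ s, ∃ n : ℕ, MoreMor.nGeomConnComp G.hom s = n := fun s => by
    haveI : LocallyOfFiniteType (Red.geomFibre s G).hom := MorphismProperty.pullback_snd _ _ inferInstance
    haveI : QuasiCompact (Red.geomFibre s G).hom := MorphismProperty.pullback_snd _ _ inferInstance
    haveI : IsLocallyNoetherian (Red.geomFibre s G).left :=
      LocallyOfFiniteType.isLocallyNoetherian (Red.geomFibre s G).hom
    haveI : CompactSpace (Red.geomFibre s G).left := QuasiCompact.compactSpace_of_compactSpace (Red.geomFibre s G).hom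
    haveI : IsNoetherian (Red.geomFibre s G).left := {}
    haveI : Finite (irreducibleComponents (Red.geomFibre s G).left) :=
      NoetherianSpace.finite_irreducibleComponents.to_subtype
    haveI : Finite (ConnectedComponents (Red.geomFibre s G).left) :=
      Finite.of_surjective (fun T : irreducibleComponents (Red.geomFibre s G).left =>
        ConnectedComponents.mk T.2.1.nonempty.some) fun c => by
        obtain ⟨x, rfl⟩ := ConnectedComponents.surjective_coe c
        refine ⟨⟨irreducibleComponent x, irreducibleComponent_mem_irreducibleComponents x⟩,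
          ConnectedComponents.coe_eq_coe'.2 ?_⟩
        exact isIrreducible_irreducibleComponent.isConnected.subset_connectedComponent mem_irreducibleComponent
          (Set.Nonempty.some_mem _)
    exact ⟨_, (heq s).trans (ENat.card_eq_coe_natCard _)⟩
  haveI : IsAffine (U : Scheme.{u}) := hU
  haveI : SpectralSpace (U : Scheme.{u}) := { }
  let A : ℕ → Set (U : Scheme.{u}) := fun n => U.ι ⁻¹' {s | MoreMor.nGeomConnComp G.hom s = n}
  have hA : ∀ n, IsOpen[constructibleTopology (U : Scheme.{u})] (A n) := fun n =>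
    (Groth.L06.Spectral.isClopen_cons_of_isConstructible
      (((Groth.L07.Count.isLocallyConstructible_nPair G.hom {p | p.1 = (n : ℕ∞)}).preimage_of_isOpenEmbedding
        U.ι.isOpenEmbedding).isConstructible)).2
  obtain ⟨F, hF⟩ := @IsCompact.elim_finite_subcover _ (constructibleTopology (U : Scheme.{u})) _ _
    (@CompactSpace.isCompact_univ _ (constructibleTopology (U : Scheme.{u})) Groth.L06.Spectral.compactSpace_cons) A hA
    (fun x _ => Set.mem_iUnion.2 (hfin (U.ι x)))
  refine ⟨F.sup id, fun s hs => ?_⟩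
  obtain ⟨n, hn, hsn⟩ := Set.mem_iUnion₂.1 (hF (Set.mem_univ (⟨s, hs⟩ : U)))
  rw [← heq s, show MoreMor.nGeomConnComp G.hom s = n from hsn]
  exact_mod_cast Finset.le_sup (f := id) hn

theorem exists_bound [LocallyOfFinitePresentation G.hom] [QuasiCompact G.hom] [QuasiSeparated G.hom]
    {U : S.Opens} (hU : IsAffineOpen U) :
    ∃ N : ℕ, (∀ s ∈ U, Red.IsSolvableGrp (Red.geomFibre s G) ↔ s ∉ bad G (CommWords.wD G N)) ∧
      (∀ s ∈ U, AGF.IsNilpotentGrp (Red.geomFibre s G) ↔ s ∉ bad G (CommWords.wL G N)) := by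
  obtain ⟨d, hd⟩ := exists_dim_bound G hU
  obtain ⟨m, hm⟩ := exists_comp_bound G hU
  refine ⟨m + (d + 1), fun s hs => ⟨fun h => ?_, fun h => (solvable_iff G hG s).2 ⟨_, h⟩⟩,
    fun s hs => ⟨fun h => ?_, fun h => (nilpotent_iff G hG s).2 ⟨_, h⟩⟩⟩
  · haveI := hG s
    exact (trivial_iff G _ s (smooth_bc_TD _ G (hG s) _)).1 ((bc_wD_iff _ G _).1
      ((words_bound (Red.geomFibre s G) d m (hd s hs) (hm s hs)).1 ((isSolvable_iff _).1 h)))
  · haveI := hG s
    exact (trivial_iff G _ s (smooth_bc_TL _ G (hG s) _)).1 ((bc_wL_iff _ G _).1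
      ((words_bound (Red.geomFibre s G) d m (hd s hs) (hm s hs)).2 ((isNilpotent_iff _).1 h)))

/-- the loci are locally constructible -/
theorem isLocallyConstructible_loci [LocallyOfFinitePresentation G.hom] [QuasiCompact G.hom] [QuasiSeparated G.hom] :
    IsLocallyConstructible {s : S | Red.IsSolvableGrp (Red.geomFibre s G)} ∧
      IsLocallyConstructible {s : S | AGF.IsNilpotentGrp (Red.geomFibre s G)} := by
  refine ⟨fun x => ?_, fun x => ?_⟩
  all_goals
    obtain ⟨U, hU, hxU, -⟩ := exists_isAffineOpen_mem_and_subset (X := S) (x := x) (U := ⊤) trivial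
    obtain ⟨N, hN₁, hN₂⟩ := exists_bound G hG hU
    haveI := (props_TD G N).1
    haveI := (props_TD G N).2
    haveI := (props_TL G N).1
    haveI := (props_TL G N).2
    haveI : IsAffine (U : Scheme.{u}) := hU
    refine ⟨U, U.isOpen.mem_nhds hxU, U.isOpen, ?_⟩
  · rw [show ((U : Set S) ↓∩ {s : S | Red.IsSolvableGrp (Red.geomFibre s G)}) =
      U.ι ⁻¹' (bad G (CommWords.wD G N))ᶜ from Set.ext fun s => hN₁ s.1 s.2]
    exact ((isLocallyConstructible_compl_bad G _).preimage_of_isOpenEmbedding U.ι.isOpenEmbedding).isConstructible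
  · rw [show ((U : Set S) ↓∩ {s : S | AGF.IsNilpotentGrp (Red.geomFibre s G)}) =
      U.ι ⁻¹' (bad G (CommWords.wL G N))ᶜ from Set.ext fun s => hN₂ s.1 s.2]
    exact ((isLocallyConstructible_compl_bad G _).preimage_of_isOpenEmbedding U.ι.isOpenEmbedding).isConstructible

omit hG in
/-- the loci are closed -/
theorem isClosed_loci [Smooth G.hom] [QuasiCompact G.hom] [IsSeparated G.hom] :
    IsClosed {s : S | Red.IsSolvableGrp (Red.geomFibre s G)} ∧
      IsClosed {s : S | AGF.IsNilpotentGrp (Red.geomFibre s G)} := by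
  have hG : ∀ s : S, Smooth (Red.geomFibre s G).hom := fun s => MorphismProperty.pullback_snd _ _ inferInstance
  have hcov : IsOpenCover (fun U : S.affineOpens => (U.1 : Opens S)) := iSup_affineOpens_eq_top S
  refine ⟨hcov.isClosed_iff_coe_preimage.2 fun U => ?_, hcov.isClosed_iff_coe_preimage.2 fun U => ?_⟩
  all_goals
    obtain ⟨N, hN₁, hN₂⟩ := exists_bound G hG U.2
    haveI := smooth_TD' G N
    haveI := smooth_TL' G N
  · convert (isClosed_compl_bad G (CommWords.wD G N)).preimage (continuous_subtype_val (p := fun x => x ∈ (U.1 : Opens S))) using 1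
    exact Set.ext fun s => hN₁ s.1 s.2
  · convert (isClosed_compl_bad G (CommWords.wL G N)).preimage (continuous_subtype_val (p := fun x => x ∈ (U.1 : Opens S))) using 1
    exact Set.ext fun s => hN₂ s.1 s.2

end Groth.L25.Solv
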