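import Groth.Agent.L25.Solv.Chain
import Groth.Agent.L25.WordPoints
import Groth.Agent.L25.Component
import Groth.Agent.L25.CommWords
import Groth.Agent.L26.AV.Isogeny

/-!
# Rational points of an algebraic group: bounds for derived length and nilpotency class
-/

set_option autoImplicit false
set_option backward.isDefEq.respectTransparency.types false
set_option linter.style.haveILetI false

universe u

open CategoryTheory CategoryTheory.Limits MonoidalCategory CartesianMonoidalCategory MonObj GrpObj AlgebraicGeometry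
open Topology
open scoped commutatorElement

noncomputable section

namespace Groth.L25.Solv

variable {k : Type u} [Field k] [IsAlgClosed k] (G : Over (Spec (CommRingCat.of k))) [GrpObj G]

/-- the point of the scheme under a rational point -/
def pt (g : 𝟙_ (Over (Spec (CommRingCat.of k))) ⟶ G) : G.left := g.left (IsLocalRing.closedPoint k)

@[reducible]
def ptTop : TopologicalSpace (𝟙_ (Over (Spec (CommRingCat.of k))) ⟶ G) := TopologicalSpace.induced (pt G) inferInstance

theorem pt_comp (g : 𝟙_ (Over (Spec (CommRingCat.of k))) ⟶ G) (φ : G ⟶ G) : pt G (g ≫ φ) = φ.left (pt G g) := rfl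

theorem const_comp (g a : 𝟙_ (Over (Spec (CommRingCat.of k))) ⟶ G) : g ≫ toUnit G ≫ a = a := by
  rw [← Category.assoc, toUnit_unique (g ≫ toUnit G) (𝟙 _), Category.id_comp]

theorem continuous_comp (φ : G ⟶ G) :
    Continuous[ptTop G, ptTop G] (fun g : 𝟙_ (Over (Spec (CommRingCat.of k))) ⟶ G => g ≫ φ) := by
  letI := ptTop G
  refine continuous_induced_rng.2 ?_
  exact φ.left.continuous.comp continuous_induced_dom

theorem isWordCont : @IsWordCont (𝟙_ (Over (Spec (CommRingCat.of k))) ⟶ G) _ (ptTop G) := by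
  letI := ptTop G
  refine ⟨fun a => ?_, fun a => ?_, ?_, fun g => ?_, fun g => ?_⟩
  · convert continuous_comp G ((toUnit G ≫ a) * 𝟙 G) using 2 with b
    rw [MonObj.comp_mul, const_comp, Category.comp_id]
  · convert continuous_comp G (𝟙 G * (toUnit G ≫ a)) using 2 with b
    rw [MonObj.comp_mul, const_comp, Category.comp_id]
  · convert continuous_comp G ((𝟙 G)⁻¹) using 2 with b
    rw [GrpObj.comp_inv, Category.comp_id]
  · convert continuous_comp G ⁅𝟙 G, toUnit G ≫ g⁆ using 2 with b
    rw [CommWords.comp_commutatorElement, const_comp, Category.comp_id]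
  · convert continuous_comp G ⁅toUnit G ≫ g, 𝟙 G⁆ using 2 with b
    rw [CommWords.comp_commutatorElement, const_comp, Category.comp_id]

variable [LocallyOfFiniteType G.hom]

theorem pt_injective : Function.Injective (pt G) := fun _ _ h => WordPoints.point_ext _ _ h

theorem isClosed_pt (g : 𝟙_ (Over (Spec (CommRingCat.of k))) ⟶ G) : IsClosed ({pt G g} : Set G.left) :=
  WordPoints.isClosed_point G g _

theorem exists_pt {x : G.left} (hx : x ∈ closedPoints G.left) : ∃ g, pt G g = x := by
  obtain ⟨⟨z, hz⟩, hzy⟩ := (pointEquivClosedPoint G.hom).surjective ⟨x, hx⟩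
  exact ⟨Over.homMk z hz, congrArg Subtype.val hzy⟩

theorem t1Space : @T1Space _ (ptTop G) := by
  letI := ptTop G
  refine ⟨fun g => isClosed_induced_iff.2 ⟨{pt G g}, isClosed_pt G g, ?_⟩⟩
  exact Set.ext fun h => ⟨fun e => pt_injective G e, fun e => congrArg (pt G) e⟩

theorem mem_component_comp (φ : G ⟶ G) {g h : 𝟙_ (Over (Spec (CommRingCat.of k))) ⟶ G}
    (hh : pt G h ∈ connectedComponent (pt G g)) : pt G (h ≫ φ) ∈ connectedComponent (pt G (g ≫ φ)) :=
  φ.left.continuous.image_connectedComponent_subset _ ⟨pt G h, hh, rfl⟩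

/-- the rational points of the neutral component -/
def neutral : Subgroup (𝟙_ (Over (Spec (CommRingCat.of k))) ⟶ G) where
  carrier := {g | pt G g ∈ connectedComponent (pt G 1)}
  one_mem' := mem_connectedComponent
  mul_mem' {a b} ha hb := by
    have h := mem_component_comp G ((toUnit G ≫ a) * 𝟙 G) hb
    simp only [MonObj.comp_mul, const_comp, Category.comp_id, _root_.mul_one] at h
    exact connectedComponent_eq (α := G.left) ha ▸ h
  inv_mem' {a} ha := by
    have h := mem_component_comp G ((𝟙 G)⁻¹) ha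
    simp only [GrpObj.comp_inv, Category.comp_id, inv_one] at h
    exact h

instance normal_neutral : (neutral G).Normal := ⟨fun a ha g => by
  have h := mem_component_comp G ((toUnit G ≫ g) * 𝟙 G * (toUnit G ≫ g)⁻¹) ha
  simp only [MonObj.comp_mul, GrpObj.comp_inv, const_comp, Category.comp_id, _root_.mul_one, mul_inv_cancel] at h
  exact h⟩

theorem neutral_irreducible :
    @IsIrreducible _ (ptTop G) ((neutral G : Set (𝟙_ (Over (Spec (CommRingCat.of k))) ⟶ G))) := by
  letI := ptTop G
  haveI : IsLocallyNoetherian G.left := LocallyOfFiniteType.isLocallyNoetherian G.hom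
  haveI : JacobsonSpace G.left := LocallyOfFiniteType.jacobsonSpace G.hom
  set C := connectedComponent (pt G 1)
  have hC : IsIrreducible C := (Component.connectedComponent_mem G (pt G 1)).1
  have himg : closure (pt G '' (neutral G : Set _)) = C := by
    refine subset_antisymm (closure_minimal (by rintro _ ⟨g, hg, rfl⟩; exact hg) isClosed_connectedComponent) ?_
    refine (closure_inter_closedPoints (isClosed_connectedComponent : IsClosed C)).ge.trans ?_
    refine closure_mono fun x hx => ?_
    obtain ⟨g, rfl⟩ := exists_pt G hx.2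
    exact ⟨g, hx.1, rfl⟩
  have hirr : IsIrreducible (pt G '' (neutral G : Set _)) := isIrreducible_iff_closure.1 (himg ▸ hC)
  refine ⟨⟨1, (neutral G).one_mem⟩, ?_⟩
  rintro U V ⟨U', hU', rfl⟩ ⟨V', hV', rfl⟩ ⟨a, ha, haU⟩ ⟨b, hb, hbV⟩
  obtain ⟨_, ⟨c, hc, rfl⟩, hcU, hcV⟩ := hirr.2 U' V' hU' hV' ⟨_, ⟨a, ha, rfl⟩, haU⟩ ⟨_, ⟨b, hb, rfl⟩, hbV⟩
  exact ⟨c, hc, hcU, hcV⟩

theorem card_quotient (m : ℕ) (hm : ENat.card (ConnectedComponents G.left) ≤ m) :
    Finite ((𝟙_ (Over (Spec (CommRingCat.of k))) ⟶ G) ⧸ neutral G) ∧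
      Nat.card ((𝟙_ (Over (Spec (CommRingCat.of k))) ⟶ G) ⧸ neutral G) ≤ m := by
  haveI : Finite (ConnectedComponents G.left) := ENat.card_lt_top.1 (hm.trans_lt (ENat.natCast_lt_top m))
  let f : (𝟙_ (Over (Spec (CommRingCat.of k))) ⟶ G) ⧸ neutral G → ConnectedComponents G.left :=
    fun q => (pt G (Quotient.out q) : ConnectedComponents G.left)
  have hf : Function.Injective f := fun p q h => by
    rw [← QuotientGroup.out_eq' p, ← QuotientGroup.out_eq' q, QuotientGroup.eq]
    have h1 : pt G (Quotient.out q) ∈ connectedComponent (pt G (Quotient.out p)) :=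
      ConnectedComponents.coe_eq_coe'.1 h.symm
    have h2 := mem_component_comp G ((toUnit G ≫ (Quotient.out p)⁻¹) * 𝟙 G) h1
    simp only [MonObj.comp_mul, const_comp, Category.comp_id, inv_mul_cancel] at h2
    exact h2
  refine ⟨Finite.of_injective f hf, (Nat.card_le_card_of_injective f hf).trans ?_⟩
  rw [ENat.card_eq_coe_natCard] at hm
  exact_mod_cast hm

/-- Rational points: bounded derived length and nilpotency class. -/
theorem points_bound (d m : ℕ) (hd : topologicalKrullDim G.left ≤ d) (hm : ENat.card (ConnectedComponents G.left) ≤ m) :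
    ((∃ n, derivedSeries (𝟙_ (Over (Spec (CommRingCat.of k))) ⟶ G) n = ⊥) →
      derivedSeries (𝟙_ (Over (Spec (CommRingCat.of k))) ⟶ G) (m + (d + 1)) = ⊥) ∧
    ((∃ n, Subgroup.lowerCentralSeries (⊤ : Subgroup (𝟙_ (Over (Spec (CommRingCat.of k))) ⟶ G)) n = ⊥) →
      Subgroup.lowerCentralSeries (⊤ : Subgroup (𝟙_ (Over (Spec (CommRingCat.of k))) ⟶ G)) (m + (d + 1)) = ⊥) := by
  letI := ptTop G
  haveI := t1Space G
  obtain ⟨hfin, hcard⟩ := card_quotient G m hm
  haveI := hfin
  have hd' : topologicalKrullDim (𝟙_ (Over (Spec (CommRingCat.of k))) ⟶ G) ≤ d :=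
    (IsInducing.topologicalKrullDim_le ⟨rfl⟩).trans hd
  exact ⟨derivedSeries_eq_bot (isWordCont G) (neutral G) (neutral_irreducible G) d hd' m hcard,
    lowerCentralSeries_eq_bot (isWordCont G) (neutral G) (neutral_irreducible G) d hd' m hcard⟩

theorem trivial_of_points [Smooth G.hom] {X : Over (Spec (CommRingCat.of k))} [Smooth X.hom] (w : X ⟶ G)
    (h : ∀ P : 𝟙_ (Over (Spec (CommRingCat.of k))) ⟶ X, P ≫ w = 1) : w = 1 := by
  refine CommWords.eq_one_of_points G k w fun P => ?_
  haveI : IsIso (Spec.map (CommRingCat.ofHom (algebraMap k k))) := by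
    rw [show CommRingCat.ofHom (algebraMap k k) = 𝟙 (CommRingCat.of k) from rfl, Spec.map_id]
    infer_instance
  let e : (Over.mk (Spec.map (CommRingCat.ofHom (algebraMap k k))) : Over (Spec (CommRingCat.of k))) ≅
      𝟙_ (Over (Spec (CommRingCat.of k))) :=
    Over.isoMk (asIso (Spec.map (CommRingCat.ofHom (algebraMap k k)))) (Category.comp_id _)
  have := congrArg (e.hom ≫ ·) (h (e.inv ≫ P))
  simpa only [Category.assoc, Iso.hom_inv_id_assoc, MonObj.comp_one] using this

/-- Words of bounded length detect solvability and nilpotency. -/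
theorem words_bound [Smooth G.hom] (d m : ℕ) (hd : topologicalKrullDim G.left ≤ d)
    (hm : ENat.card (ConnectedComponents G.left) ≤ m) :
    ((∃ n, CommWords.wD G n = 1) → CommWords.wD G (m + (d + 1)) = 1) ∧
    ((∃ n, CommWords.wL G n = 1) → CommWords.wL G (m + (d + 1)) = 1) := by
  haveI := CommWords.smooth_TD G (m + (d + 1))
  haveI := CommWords.smooth_TL G (m + (d + 1))
  refine ⟨fun ⟨n, hn⟩ => trivial_of_points G _ ((CommWords.derived_bot_iff G _ _).1
      ((points_bound G d m hd hm).1 ⟨n, (CommWords.derived_bot_iff G _ n).2 fun P => by rw [hn, MonObj.comp_one]⟩)),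
    fun ⟨n, hn⟩ => trivial_of_points G _ ((CommWords.lower_bot_iff G _ _).1
      ((points_bound G d m hd hm).2 ⟨n, (CommWords.lower_bot_iff G _ n).2 fun P => by rw [hn, MonObj.comp_one]⟩))⟩

end Groth.L25.Solv
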