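import Mathlib.Topology.KrullDimension
import Mathlib.GroupTheory.Solvable
import Mathlib.GroupTheory.Nilpotent

/-!
# Commutator chains in groups with a separately continuous topology
-/

set_option autoImplicit false
open Topology
open scoped commutatorElement

namespace Groth.L25.Solv

variable {Γ : Type*} [Group Γ] [TopologicalSpace Γ]

/-- Translations, inversion and commutator maps are continuous. -/
structure IsWordCont (Γ : Type*) [Group Γ] [TopologicalSpace Γ] : Prop where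
  left : ∀ a : Γ, Continuous (fun b => a * b)
  right : ∀ a : Γ, Continuous (fun b => b * a)
  inv : Continuous (fun b : Γ => b⁻¹)
  comm₁ : ∀ g : Γ, Continuous (fun b : Γ => ⁅b, g⁆)
  comm₂ : ∀ g : Γ, Continuous (fun b : Γ => ⁅g, b⁆)

theorem isPreirreducible_mul (hc : IsWordCont Γ) {P Q : Set Γ} (hP : IsPreirreducible P) (hQ : IsPreirreducible Q) :
    IsPreirreducible (Set.image2 (· * ·) P Q) := by
  intro U V hU hV ⟨z₁, ⟨x₁, hx₁, y₁, hy₁, e₁⟩, hz₁⟩ ⟨z₂, ⟨x₂, hx₂, y₂, hy₂, e₂⟩, hz₂⟩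
  have hopen : ∀ W : Set Γ, IsOpen W → IsOpen (⋃ y ∈ Q, (fun b => b * y) ⁻¹' W) := fun W hW =>
    isOpen_biUnion fun y _ => hW.preimage (hc.right y)
  obtain ⟨x, hxP, hxU, hxV⟩ := hP _ _ (hopen U hU) (hopen V hV)
    ⟨x₁, hx₁, Set.mem_biUnion hy₁ (show x₁ * y₁ ∈ U by rw [show x₁ * y₁ = z₁ from e₁]; exact hz₁)⟩
    ⟨x₂, hx₂, Set.mem_biUnion hy₂ (show x₂ * y₂ ∈ V by rw [show x₂ * y₂ = z₂ from e₂]; exact hz₂)⟩
  obtain ⟨q₁, hq₁, h₁⟩ := Set.mem_iUnion₂.1 hxU
  obtain ⟨q₂, hq₂, h₂⟩ := Set.mem_iUnion₂.1 hxV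
  obtain ⟨q, hq, hqU, hqV⟩ := hQ _ _ (hU.preimage (hc.left x)) (hV.preimage (hc.left x)) ⟨q₁, hq₁, h₁⟩ ⟨q₂, hq₂, h₂⟩
  exact ⟨x * q, ⟨x, hxP, q, hq, rfl⟩, hqU, hqV⟩

theorem isIrreducible_closure_iUnion (hc : IsWordCont Γ) {ι : Type*} (X : ι → Set Γ)
    (hX : ∀ i, IsPreirreducible (X i)) (h1 : ∀ i, (1 : Γ) ∈ X i) :
    IsIrreducible (Subgroup.closure (⋃ i, X i) : Set Γ) := by
  set H := Subgroup.closure (⋃ i, X i) with hH
  have key : ∀ h ∈ H, ∃ P : Set Γ, IsPreirreducible P ∧ 1 ∈ P ∧ P ⊆ H ∧ h ∈ P := by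
    intro h hh
    induction hh using Subgroup.closure_induction with
    | mem x hx =>
      obtain ⟨i, hi⟩ := Set.mem_iUnion.1 hx
      exact ⟨X i, hX i, h1 i, (Set.subset_iUnion X i).trans Subgroup.subset_closure, hi⟩
    | one => exact ⟨{1}, isPreirreducible_singleton, rfl, Set.singleton_subset_iff.2 H.one_mem, rfl⟩
    | mul x y _ _ ihx ihy =>
      obtain ⟨P, hP, hP1, hPH, hxP⟩ := ihx
      obtain ⟨Q, hQ, hQ1, hQH, hyQ⟩ := ihy
      refine ⟨Set.image2 (· * ·) P Q, isPreirreducible_mul hc hP hQ, ⟨1, hP1, 1, hQ1, one_mul 1⟩, ?_,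
        ⟨x, hxP, y, hyQ, rfl⟩⟩
      rintro _ ⟨a, ha, b, hb, rfl⟩
      exact H.mul_mem (hPH ha) (hQH hb)
    | inv x _ ihx =>
      obtain ⟨P, hP, hP1, hPH, hxP⟩ := ihx
      refine ⟨(fun b => b⁻¹) '' P, hP.image _ hc.inv.continuousOn, ⟨1, hP1, inv_one⟩, ?_, ⟨x, hxP, rfl⟩⟩
      rintro _ ⟨a, ha, rfl⟩
      exact H.inv_mem (hPH ha)
  refine ⟨⟨1, H.one_mem⟩, fun U V hU hV ⟨a, ha, haU⟩ ⟨b, hb, hbV⟩ => ?_⟩
  obtain ⟨P, hP, hP1, hPH, haP⟩ := key a ha
  obtain ⟨Q, hQ, hQ1, hQH, hbQ⟩ := key b hb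
  obtain ⟨z, ⟨p, hp, q, hq, rfl⟩, hz⟩ := isPreirreducible_mul hc hP hQ U V hU hV
    ⟨a, ⟨a, haP, 1, hQ1, mul_one a⟩, haU⟩ ⟨b, ⟨1, hP1, b, hbQ, one_mul b⟩, hbV⟩
  exact ⟨p * q, H.mul_mem (hPH hp) (hQH hq), hz⟩

theorem isIrreducible_commutator (hc : IsWordCont Γ) (H K : Subgroup Γ) (hH : IsIrreducible (H : Set Γ)) :
    IsIrreducible ((⁅H, K⁆ : Subgroup Γ) : Set Γ) := by
  have e : ⁅H, K⁆ = Subgroup.closure (⋃ g : K, (fun b : Γ => ⁅b, (g : Γ)⁆) '' (H : Set Γ)) := by
    rw [Subgroup.commutator_def]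
    congr 1
    ext z
    simp only [Set.mem_ofPred_eq, Set.mem_iUnion, Set.mem_image, SetLike.mem_coe, Subtype.exists]
    exact ⟨fun ⟨a, ha, b, hb, e⟩ => ⟨b, hb, a, ha, e⟩, fun ⟨b, hb, a, ha, e⟩ => ⟨a, ha, b, hb, e⟩⟩
  rw [e]
  exact isIrreducible_closure_iUnion hc _ (fun g => hH.isPreirreducible.image _ (hc.comm₁ _).continuousOn)
    fun g => ⟨1, H.one_mem, commutatorElement_one_left _⟩

theorem closure_mul_mem (hc : IsWordCont Γ) (H : Subgroup Γ) {a b : Γ} (ha : a ∈ closure (H : Set Γ))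
    (hb : b ∈ closure (H : Set Γ)) : a * b ∈ closure (H : Set Γ) := by
  have h1 : ∀ x ∈ (H : Set Γ), x * b ∈ closure (H : Set Γ) := fun x hx =>
    map_mem_closure (hc.left x) hb fun y hy => H.mul_mem hx hy
  have := map_mem_closure (hc.right b) ha h1
  rwa [closure_closure] at this

/-- closure of a subgroup -/
def closureSubgroup (hc : IsWordCont Γ) (H : Subgroup Γ) : Subgroup Γ where
  carrier := closure (H : Set Γ)
  mul_mem' := closure_mul_mem hc H
  one_mem' := subset_closure H.one_mem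
  inv_mem' := fun ha => map_mem_closure hc.inv ha fun _ hx => H.inv_mem hx

/-- the chain of iterated commutators -/
def chain (A : Subgroup Γ → Subgroup Γ) (Γ₀ : Subgroup Γ) : ℕ → Subgroup Γ
  | 0 => Γ₀
  | n + 1 => ⁅chain A Γ₀ n, A (chain A Γ₀ n)⁆

theorem commutator_subset_closure (hc : IsWordCont Γ) {H K H' K' : Subgroup Γ}
    (hH : (H : Set Γ) ⊆ closure (H' : Set Γ)) (hK : (K : Set Γ) ⊆ closure (K' : Set Γ)) :
    (⁅H, K⁆ : Subgroup Γ) ≤ closureSubgroup hc ⁅H', K'⁆ := by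
  rw [Subgroup.commutator_le]
  intro a ha b hb
  show ⁅a, b⁆ ∈ closure ((⁅H', K'⁆ : Subgroup Γ) : Set Γ)
  have h1 : ∀ x ∈ (H' : Set Γ), ⁅x, b⁆ ∈ closure ((⁅H', K'⁆ : Subgroup Γ) : Set Γ) := fun x hx =>
    map_mem_closure (hc.comm₂ x) (hK hb) fun y hy => Subgroup.commutator_mem_commutator hx hy
  have := map_mem_closure (hc.comm₁ b) (hH ha) h1
  rwa [closure_closure] at this

theorem chain_eq_bot (hc : IsWordCont Γ) [T1Space Γ] (A : Subgroup Γ → Subgroup Γ)
    (hA : ∀ H K : Subgroup Γ, (H : Set Γ) ⊆ closure (K : Set Γ) → ((A H : Subgroup Γ) : Set Γ) ⊆ closure ((A K : Subgroup Γ) : Set Γ))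
    (hAn : ∀ H : Subgroup Γ, H.Normal → (A H).Normal) (Γ₀ : Subgroup Γ) [hn : Γ₀.Normal]
    (hirr : IsIrreducible (Γ₀ : Set Γ)) (d : ℕ) (hd : topologicalKrullDim Γ ≤ d)
    (hex : ∃ n, chain A Γ₀ n = ⊥) : chain A Γ₀ (d + 1) = ⊥ := by
  set B := chain A Γ₀ with hBdef
  have hirrB : ∀ n, IsIrreducible (B n : Set Γ) := fun n => by
    induction n with
    | zero => exact hirr
    | succ n ih => exact isIrreducible_commutator hc (B n) (A (B n)) ih
  have hnB : ∀ n, (B n).Normal := fun n => by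
    induction n with
    | zero => exact hn
    | succ n ih => haveI := ih; haveI := hAn _ ih; exact Subgroup.commutator_normal _ _
  have hanti : Antitone B := antitone_nat_of_succ_le fun n => by
    haveI := hnB n
    exact Subgroup.commutator_le_left _ _
  have hstat : ∀ i, (B i : Set Γ) ⊆ closure (B (i + 1) : Set Γ) → ∀ j, i ≤ j → (B i : Set Γ) ⊆ closure (B j : Set Γ) := by
    intro i hi
    have hstep : ∀ j, i ≤ j → (B j : Set Γ) ⊆ closure (B (j + 1) : Set Γ) := by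
      intro j hij
      induction j, hij using Nat.le_induction with
      | base => exact hi
      | succ j _ ih => exact commutator_subset_closure hc ih (hA _ _ ih)
    intro j hij
    induction j, hij using Nat.le_induction with
    | base => exact subset_closure
    | succ j hij ih => exact ih.trans (closure_minimal (hstep j hij) isClosed_closure)
  by_contra hne
  have hlt : ∀ i, i ≤ d → closure (B (i + 1) : Set Γ) ⊂ closure (B i : Set Γ) := by
    intro i hi
    refine ⟨closure_mono (hanti (Nat.le_succ i)), fun h => hne ?_⟩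
    obtain ⟨n, hn⟩ := hex
    have h' := hstat i (subset_closure.trans h) (max i n) (le_max_left _ _)
    have hb : B (max i n) = ⊥ := le_bot_iff.1 (hn ▸ hanti (le_max_right _ _))
    rw [hb, Subgroup.coe_bot, closure_singleton] at h'
    have hi' : B i = ⊥ := le_bot_iff.1 fun x hx => Subgroup.mem_bot.2 (h' hx)
    exact le_bot_iff.1 (hi' ▸ hanti (hi.trans (Nat.le_succ d)))
  let Z : Fin (d + 2) → TopologicalSpace.IrreducibleCloseds Γ := fun i =>
    ⟨closure (B (d + 1 - i) : Set Γ), (hirrB _).closure, isClosed_closure⟩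
  let s : LTSeries (TopologicalSpace.IrreducibleCloseds Γ) :=
    { length := d + 1, toFun := Z, step := fun i => by
        show closure (B (d + 1 - i.castSucc.val) : Set Γ) ⊂ closure (B (d + 1 - i.succ.val) : Set Γ)
        have e : d + 1 - i.castSucc.val = (d + 1 - i.succ.val) + 1 := by simp; omega
        rw [e]
        exact hlt _ (by simp only [Fin.val_succ]; omega) }
  have hle : ((d + 1 : ℕ) : WithBot ℕ∞) ≤ topologicalKrullDim Γ := Order.LTSeries.length_le_krullDim s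
  have h3 := hle.trans hd
  have : d + 1 ≤ d := by exact_mod_cast h3
  omega

/-- a sequence of subgroups of a finite group obtained by iterating an operation -/
theorem eq_bot_of_card {Q : Type*} [Group Q] [Finite Q] (φ : Subgroup Q → Subgroup Q) (f : ℕ → Subgroup Q)
    (hf : ∀ n, f (n + 1) = φ (f n)) (hanti : Antitone f) (hex : ∃ n, f n = ⊥) (m : ℕ) (hm : Nat.card Q ≤ m) :
    f m = ⊥ := by
  have key : ∀ k, f k = ⊥ ∨ Nat.card (f k) + k ≤ m := by
    intro k
    induction k with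
    | zero => exact Or.inr ((Nat.add_zero _).le.trans ((Nat.card_le_card_of_injective _ Subtype.val_injective).trans hm))
    | succ k ih =>
      rcases ih with ih | ih
      · exact Or.inl (le_bot_iff.1 (ih ▸ hanti (Nat.le_succ k)))
      · by_cases he : f (k + 1) = f k
        · left
          obtain ⟨n, hn⟩ := hex
          have hconst : ∀ j, k ≤ j → f j = f k := by
            intro j hj
            induction j, hj using Nat.le_induction with
            | base => rfl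
            | succ j _ ihj => rw [hf, ihj, ← hf, he]
          rw [he, ← hconst (max k n) (le_max_left _ _)]
          exact le_bot_iff.1 (hn ▸ hanti (le_max_right _ _))
        · right
          have hlt : f (k + 1) < f k := lt_of_le_of_ne (hanti (Nat.le_succ k)) he
          have : Nat.card (f (k + 1)) < Nat.card (f k) := by
            have := Set.ncard_lt_ncard (SetLike.coe_ssubset_coe.2 hlt) (Set.toFinite _)
            exact (Nat.card_coe_set_eq _).trans_lt (this.trans_eq (Nat.card_coe_set_eq _).symm)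
          omega
  rcases key m with h | h
  · exact h
  · have := Nat.card_pos (α := f m)
    omega

/-- derived series of bounded length -/
theorem derivedSeries_eq_bot (hc : IsWordCont Γ) [T1Space Γ] (Γ₀ : Subgroup Γ) [Γ₀.Normal]
    (hirr : IsIrreducible (Γ₀ : Set Γ)) (d : ℕ) (hd : topologicalKrullDim Γ ≤ d) [Finite (Γ ⧸ Γ₀)]
    (m : ℕ) (hm : Nat.card (Γ ⧸ Γ₀) ≤ m) (hex : ∃ n, derivedSeries Γ n = ⊥) :
    derivedSeries Γ (m + (d + 1)) = ⊥ := by
  obtain ⟨n, hn⟩ := hex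
  let q := QuotientGroup.mk' Γ₀
  have hq : ∀ i, (derivedSeries Γ i).map q = derivedSeries (Γ ⧸ Γ₀) i :=
    map_derivedSeries_eq (QuotientGroup.mk'_surjective Γ₀)
  have h1 : derivedSeries (Γ ⧸ Γ₀) m = ⊥ :=
    eq_bot_of_card (fun H => ⁅H, H⁆) _ (fun _ => rfl)
      (antitone_nat_of_succ_le fun i => Subgroup.commutator_le_left _ _)
      ⟨n, by rw [← hq, hn, Subgroup.map_bot]⟩ m hm
  have h2 : derivedSeries Γ m ≤ Γ₀ := by
    rw [← hq, Subgroup.map_eq_bot_iff, QuotientGroup.ker_mk'] at h1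
    exact h1
  have hB : ∀ i, chain id Γ₀ i ≤ derivedSeries Γ i := fun i => by
    induction i with
    | zero => exact le_top
    | succ i ih => exact Subgroup.commutator_mono ih ih
  have hD : ∀ i, derivedSeries Γ (m + i) ≤ chain id Γ₀ i := fun i => by
    induction i with
    | zero => exact h2
    | succ i ih => exact Subgroup.commutator_mono ih ih
  exact le_bot_iff.1 ((hD (d + 1)).trans (chain_eq_bot hc id (fun _ _ h => h) (fun _ h => h) Γ₀ hirr d hd
    ⟨n, le_bot_iff.1 (hn ▸ hB n)⟩).le)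

/-- lower central series of bounded length -/
theorem lowerCentralSeries_eq_bot (hc : IsWordCont Γ) [T1Space Γ] (Γ₀ : Subgroup Γ) [Γ₀.Normal]
    (hirr : IsIrreducible (Γ₀ : Set Γ)) (d : ℕ) (hd : topologicalKrullDim Γ ≤ d) [Finite (Γ ⧸ Γ₀)]
    (m : ℕ) (hm : Nat.card (Γ ⧸ Γ₀) ≤ m) (hex : ∃ n, Subgroup.lowerCentralSeries (⊤ : Subgroup Γ) n = ⊥) :
    Subgroup.lowerCentralSeries (⊤ : Subgroup Γ) (m + (d + 1)) = ⊥ := by
  obtain ⟨n, hn⟩ := hex
  let q := QuotientGroup.mk' Γ₀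
  have hq : ∀ i, (Subgroup.lowerCentralSeries (⊤ : Subgroup Γ) i).map q =
      Subgroup.lowerCentralSeries (⊤ : Subgroup (Γ ⧸ Γ₀)) i := fun i => by
    rw [Subgroup.map_lowerCentralSeries, Subgroup.map_top_of_surjective q (QuotientGroup.mk'_surjective Γ₀)]
  have h1 : Subgroup.lowerCentralSeries (⊤ : Subgroup (Γ ⧸ Γ₀)) m = ⊥ :=
    eq_bot_of_card (fun H => ⁅H, ⊤⁆) _ (fun _ => rfl) (Subgroup.lowerCentralSeries_antitone _)
      ⟨n, by rw [← hq, hn, Subgroup.map_bot]⟩ m hm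
  have h2 : Subgroup.lowerCentralSeries (⊤ : Subgroup Γ) m ≤ Γ₀ := by
    rw [← hq, Subgroup.map_eq_bot_iff, QuotientGroup.ker_mk'] at h1
    exact h1
  have hB : ∀ i, chain (fun _ => ⊤) Γ₀ i ≤ Subgroup.lowerCentralSeries (⊤ : Subgroup Γ) i := fun i => by
    induction i with
    | zero => exact le_top
    | succ i ih => exact Subgroup.commutator_mono ih le_top
  have hD : ∀ i, Subgroup.lowerCentralSeries (⊤ : Subgroup Γ) (m + i) ≤ chain (fun _ => ⊤) Γ₀ i := fun i => by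
    induction i with
    | zero => exact h2
    | succ i ih => exact Subgroup.commutator_mono ih le_top
  exact le_bot_iff.1 ((hD (d + 1)).trans (chain_eq_bot hc (fun _ => ⊤) (fun _ _ _ => subset_closure)
    (fun _ _ => inferInstance) Γ₀ hirr d hd ⟨n, le_bot_iff.1 (hn ▸ hB n)⟩).le)

end Groth.L25.Solv
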